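import Mathlib
import Cfsg.Agent.Lib.Helper81.FCZ.Defs
import Cfsg.Agent.Lib.Helper4.FCMain

/-!
# FCZ package [F-COMM]: commuting elements of the same prime order in a Frobenius complement
generate the same subgroup (helper82)
-/

set_option autoImplicit false

namespace Cfsg.Agent.Lib.Helper82.FCZ

open Cfsg.Agent.Lib.Helper81.FCZ

universe u

/-- In a finite cyclic group, an element killed by `p` lies in the subgroup generated by
any element of order `p`. -/
theorem mem_zpowers_of_cyclic {A : Type*} [Group A] [Finite A] [IsCyclic A] (p : ℕ)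
    (hp : 0 < p) (x y : A) (hx : orderOf x = p) (hy : y ^ p = 1) :
    y ∈ Subgroup.zpowers x := by
  classical
  haveI := Fintype.ofFinite A
  have hle := IsCyclic.card_pow_eq_one_le (α := A) hp
  have hsub : (Finset.univ.filter fun a : A => a ∈ Subgroup.zpowers x) ⊆
      (Finset.univ.filter fun a : A => a ^ p = 1) := by
    intro a ha
    rw [Finset.mem_filter] at ha ⊢
    refine ⟨Finset.mem_univ _, ?_⟩
    obtain ⟨i, rfl⟩ := Subgroup.mem_zpowers_iff.mp ha.2
    rw [← zpow_natCast, ← zpow_mul, mul_comm, zpow_mul, zpow_natCast, ← hx, pow_orderOf_eq_one,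
      one_zpow]
  have hcard : (Finset.univ.filter fun a : A => a ∈ Subgroup.zpowers x).card = p := by
    have h1 : Nat.card (Subgroup.zpowers x) = p := by rw [Nat.card_zpowers, hx]
    rw [← h1, Nat.card_eq_fintype_card, Fintype.card_subtype]
  have heq := Finset.eq_of_subset_of_card_le hsub (by rw [hcard]; exact hle)
  have hmem : y ∈ (Finset.univ.filter fun a : A => a ^ p = 1) := by
    rw [Finset.mem_filter]; exact ⟨Finset.mem_univ _, hy⟩
  rw [← heq, Finset.mem_filter] at hmem
  exact hmem.2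

/-- [F-COMM] -/
theorem pkgFComm : PkgFComm.{u} := by
  intro G _ _ hFC p x y hp hx hy hxy
  classical
  by_contra hyn
  have hcomm : ∀ (a : Subgroup.zpowers x) (b : Subgroup.zpowers y),
      Commute ((Subgroup.zpowers x).subtype a) ((Subgroup.zpowers y).subtype b) := by
    rintro ⟨a, ha⟩ ⟨b, hb⟩
    obtain ⟨i, rfl⟩ := Subgroup.mem_zpowers_iff.mp ha
    obtain ⟨j, rfl⟩ := Subgroup.mem_zpowers_iff.mp hb
    exact ((Commute.zpow_right (show Commute x y from hxy) j).zpow_left i)
  obtain ⟨f, hf⟩ : ∃ f : (Subgroup.zpowers x × Subgroup.zpowers y) →* G,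
      ∀ a b, f (a, b) = (a : G) * (b : G) :=
    ⟨MonoidHom.noncommCoprod (Subgroup.zpowers x).subtype (Subgroup.zpowers y).subtype hcomm,
      fun a b => rfl⟩
  have hxA : x ∈ f.range := ⟨(⟨x, Subgroup.mem_zpowers x⟩, 1), by rw [hf]; simp⟩
  have hyA : y ∈ f.range := ⟨(1, ⟨y, Subgroup.mem_zpowers y⟩), by rw [hf]; simp⟩
  have hcx : Nat.card (Subgroup.zpowers x) = p := by rw [Nat.card_zpowers, hx]
  have hcy : Nat.card (Subgroup.zpowers y) = p := by rw [Nat.card_zpowers, hy]
  have hdvd : Nat.card f.range ∣ p ^ 2 := by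
    have := Subgroup.card_range_dvd f
    rwa [Nat.card_prod, hcx, hcy, ← sq] at this
  obtain ⟨k, hk, hkc⟩ := (Nat.dvd_prime_pow hp).mp hdvd
  have hle : Subgroup.zpowers x ≤ f.range := by rwa [Subgroup.zpowers_le]
  have hk2 : k = 2 := by
    interval_cases k
    · exfalso
      have h1 : Nat.card (Subgroup.zpowers x) ∣ Nat.card f.range := Subgroup.card_dvd_of_le hle
      rw [hcx, hkc, pow_zero, Nat.dvd_one] at h1
      exact hp.one_lt.ne' h1
    · exfalso
      have heq : Subgroup.zpowers x = f.range :=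
        Subgroup.eq_of_le_of_card_ge hle (by rw [hcx, hkc, pow_one])
      exact hyn (heq ▸ hyA)
    · rfl
  have hA : Nat.card f.range = p * p := by rw [hkc, hk2, sq]
  haveI hcyc : IsCyclic f.range :=
    (Cfsg.Agent.Lib.Helper4.FC.frob_compl_facts hFC).2 f.range ⟨p, p, hp, hp, hA⟩
  have hx' : orderOf (⟨x, hxA⟩ : f.range) = p := by
    rw [← hx]; exact (Subgroup.orderOf_mk x hxA)
  have hy' : (⟨y, hyA⟩ : f.range) ^ p = 1 := by
    apply Subtype.ext
    simp only [Subgroup.coe_pow, Subgroup.coe_one]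
    rw [← hy, pow_orderOf_eq_one]
  have hmem := mem_zpowers_of_cyclic p hp.pos (⟨x, hxA⟩ : f.range) ⟨y, hyA⟩ hx' hy'
  obtain ⟨i, hi⟩ := Subgroup.mem_zpowers_iff.mp hmem
  apply hyn
  rw [Subgroup.mem_zpowers_iff]
  refine ⟨i, ?_⟩
  have := congrArg (Subtype.val) hi
  simpa using this

end Cfsg.Agent.Lib.Helper82.FCZ
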