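import Mathlib
import Cfsg.Agent.Lib.Helper81.FCZ.Defs
import Cfsg.Agent.Lib.Helper4.FCMain

/-!
# FCZ package [F-SYL]: Sylow subgroups of a Frobenius complement (helper82)
-/

set_option autoImplicit false

namespace Cfsg.Agent.Lib.Helper82.FCZ

open Cfsg.Agent.Lib.Helper81.FCZ

universe u

/-- [F-SYL] -/
theorem pkgFSyl : PkgFSyl.{u} := by
  intro G _ _ hFC
  exact (Cfsg.Agent.Lib.Helper4.FC.frob_compl_facts hFC).1

end Cfsg.Agent.Lib.Helper82.FCZ
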