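import Mathlib
import Cfsg.Agent.Lib.Helper81.FCZ.Defs
import Cfsg.Agent.Lib.Helper71.FpfFrob

/-!
# FCZ package [F-INV]: a Frobenius complement has at most one involution (helper82)
-/

set_option autoImplicit false

namespace Cfsg.Agent.Lib.Helper82.FCZ

open Cfsg.Agent.Lib.Helper81.FCZ

universe u

/-- An involution acting without fixed points on an abelian normal subgroup inverts it. -/
theorem inv_of_fpf_involution {L : Type*} [Group L] (Z : Subgroup L) [Z.Normal]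
    (hZc : ∀ x ∈ Z, ∀ y ∈ Z, x * y = y * x) (t : L) (htt : t * t = 1)
    (hf : ∀ z ∈ Z, t * z * t⁻¹ = z → z = 1) (z : L) (hz : z ∈ Z) :
    t * z * t⁻¹ = z⁻¹ := by
  have htz : t * z * t⁻¹ ∈ Z := ‹Z.Normal›.conj_mem z hz t
  have hw : z * (t * z * t⁻¹) ∈ Z := Z.mul_mem hz htz
  have hti : t⁻¹ = t := inv_eq_of_mul_eq_one_left htt
  have h1 : t * (z * (t * z * t⁻¹)) * t⁻¹ = z * (t * z * t⁻¹) := by
    have h2 : t * (z * (t * z * t⁻¹)) * t⁻¹ = (t * z * t⁻¹) * ((t * t) * z * (t * t)⁻¹) := by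
      group
    rw [h2, htt]
    simp only [one_mul, inv_one, mul_one]
    exact hZc _ htz _ hz
  have h3 := hf _ hw h1
  exact (eq_inv_of_mul_eq_one_right h3)

/-- [F-INV] -/
theorem pkgFInv : PkgFInv.{u} := by
  intro G _ _ hFC t u ht1 hu1 htt huu
  obtain ⟨L, _, _, H, hH, ⟨e⟩⟩ := hFC
  obtain ⟨Z, hZn, hZ1, hZc, -, hZf⟩ :=
    Cfsg.Agent.Lib.Helper71.exists_abelian_normal_of_frobeniusComplement H hH
  haveI := hZn
  obtain ⟨ι, hι⟩ : ∃ ι : G →* L, ι = H.subtype.comp (e : G →* H) := ⟨_, rfl⟩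
  have hιi : Function.Injective ι := by
    rw [hι]; exact H.subtype_injective.comp e.injective
  have hιH : ∀ x : G, ι x ∈ H := fun x => by rw [hι]; exact (e x).2
  have hT1 : ι t ≠ 1 := fun h => ht1 (hιi (by rw [h, map_one]))
  have hU1 : ι u ≠ 1 := fun h => hu1 (hιi (by rw [h, map_one]))
  have hTT : ι t * ι t = 1 := by rw [← map_mul, htt, map_one]
  have hUU : ι u * ι u = 1 := by rw [← map_mul, huu, map_one]
  have hTinv := inv_of_fpf_involution Z hZc (ι t) hTT (hZf (ι t) (hιH t) hT1)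
  have hUinv := inv_of_fpf_involution Z hZc (ι u) hUU (hZf (ι u) (hιH u) hU1)
  obtain ⟨z, hz1⟩ := (Subgroup.ne_bot_iff_exists_ne_one).mp hZ1
  have hzZ : (z : L) ∈ Z := z.2
  have hz1' : (z : L) ≠ 1 := fun h => hz1 (Subtype.ext h)
  by_contra hne
  have hne' : ι (u⁻¹ * t) ≠ 1 := by
    intro h
    have h2 : u⁻¹ * t = 1 := hιi (by rw [h, map_one])
    exact hne (inv_mul_eq_one.mp h2).symm
  have hfix : ι (u⁻¹ * t) * (z : L) * (ι (u⁻¹ * t))⁻¹ = z := by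
    have hUi : (ι u)⁻¹ = ι u := inv_eq_of_mul_eq_one_left hUU
    have h1 : ι (u⁻¹ * t) * (z : L) * (ι (u⁻¹ * t))⁻¹
        = (ι u)⁻¹ * (ι t * z * (ι t)⁻¹) * ((ι u)⁻¹)⁻¹ := by
      rw [map_mul, map_inv]; group
    rw [h1, hTinv z hzZ, hUi, hUinv _ (Z.inv_mem hzZ), inv_inv]
  exact hz1' (hZf _ (hιH _) hne' z hzZ hfix)

end Cfsg.Agent.Lib.Helper82.FCZ
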